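import Groth.Agent.H17.Val.BCDim
import Groth.Agent.H53.FibreDimThick

set_option autoImplicit false
set_option linter.style.haveILetI false
universe u
open CategoryTheory AlgebraicGeometry Limits Topology TopologicalSpace

namespace Groth.Agent.H17.QS

open Groth.Agent.H17.Val

/-- Points of a fibre product `X ×_S U` lying over the image of a "rational" point
`σ : Spec κ(y) ⟶ U` (with `σ ≫ g` the canonical point `y` of `S`) are determined by their image
in `X`, and have the same residue field as that image. -/
theorem eq_and_isIso_residueFieldMap_of_section {X S U : Scheme.{u}} (f : X ⟶ S) (g : U ⟶ S)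
    (y : S) (σ : Spec (S.residueField y) ⟶ U) (hσ : σ ≫ g = S.fromSpecResidueField y)
    (v : ↥(pullback f g)) (hv : (pullback.snd f g).base v ∈ Set.range σ.base) :
    IsIso ((pullback.fst f g).residueFieldMap v) ∧
      ∀ v' : ↥(pullback f g), (pullback.snd f g).base v' ∈ Set.range σ.base →
        (pullback.fst f g).base v' = (pullback.fst f g).base v → v' = v := by
  set p := pullback.snd f g with hp
  set a := pullback.fst f g with ha
  let Pσ := pullback p σ
  let fstσ : Pσ ⟶ pullback f g := pullback.fst p σ
  let sndσ : Pσ ⟶ Spec (S.residueField y) := pullback.snd p σ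
  have s1 : IsPullback fstσ sndσ p σ := IsPullback.of_hasPullback _ _
  have s2 : IsPullback a p f g := IsPullback.of_hasPullback _ _
  have big : IsPullback (fstσ ≫ a) sndσ f (S.fromSpecResidueField y) := by
    have := s1.paste_horiz s2
    rwa [hσ] at this
  haveI hpre : IsPreimmersion (fstσ ≫ a) :=
    MorphismProperty.of_isPullback (P := @IsPreimmersion) big.flip inferInstance
  have hlift : ∀ w : ↥(pullback f g), p.base w ∈ Set.range σ.base →
      ∃ r : Pσ, fstσ.base r = w := by
    rintro w ⟨t, ht⟩
    obtain ⟨r, hr1, -⟩ := exists_of_isPullback s1 w t ht.symm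
    exact ⟨r, hr1⟩
  obtain ⟨r, hr⟩ := hlift v hv
  refine ⟨?_, ?_⟩
  · have h1 : IsIso ((fstσ ≫ a).residueFieldMap r) :=
      Groth.Agent.H53.isIso_residueFieldMap_of_isPreimmersion (fstσ ≫ a) r
    rw [Scheme.residueFieldMap_comp] at h1
    subst hr
    -- `A ≫ B` iso with `B` injective implies `A` iso
    set A := a.residueFieldMap (fstσ.base r) with hA
    set B := fstσ.residueFieldMap r with hB
    have hbij := (ConcreteCategory.isIso_iff_bijective (A ≫ B)).mp h1
    have hBinj : Function.Injective B.hom := B.hom.injective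
    rw [ConcreteCategory.isIso_iff_bijective]
    refine ⟨A.hom.injective, ?_⟩
    intro t
    obtain ⟨t₀, ht₀⟩ := hbij.2 (B.hom t)
    refine ⟨t₀, hBinj ?_⟩
    exact ht₀
  · intro v' hv' hav'
    obtain ⟨r', hr'⟩ := hlift v' hv'
    have h1 : (fstσ ≫ a).base r' = (fstσ ≫ a).base r := by
      rw [Scheme.Hom.comp_apply, Scheme.Hom.comp_apply, hr', hr, hav']
    have h2 : r' = r := (fstσ ≫ a).isEmbedding.injective h1
    rw [← hr', ← hr, h2]

end Groth.Agent.H17.QS
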