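import Groth.Agent.H17.QS.PtChart2
import Groth.Agent.H17.QS.SecFib
import Groth.Agent.H17.QF.UOLemmas
import Groth.Agent.H17.QF.CompFib
import Groth.Agent.H17.Chev.DimEqScheme
import Groth.Agent.H17.Chev.GenericConst
import Groth.Agent.H53.ZMT.LocalStr2

set_option autoImplicit false
set_option linter.style.haveILetI false
universe u
open CategoryTheory AlgebraicGeometry Limits Topology TopologicalSpace

namespace Groth.Agent.H17.QS

open Groth.Agent.H17.QF Groth.Agent.H17.Val Groth.Agent.H17.Chev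

theorem locallyQuasiFinite_of_etale' {X Y : Scheme.{u}} (f : X ⟶ Y) [Etale f] :
    LocallyQuasiFinite f := by
  refine ⟨fun {U} hU {V} hV e => ?_⟩
  have hφ : (f.appLE U V e).hom.Etale :=
    HasRingHomProperty.appLE (P := @Etale) f inferInstance ⟨U, hU⟩ ⟨V, hV⟩ e
  algebraize [(f.appLE U V e).hom]
  have : Algebra.Etale Γ(Y, U) Γ(X, V) := hφ
  exact RingHom.quasiFinite_algebraMap.mpr inferInstance

/-- A point at which a morphism locally of finite type is quasi-finite has an open neighbourhood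
containing no other point of its fibre. -/
theorem exists_open_inter_fibre_eq_singleton {X Y : Scheme.{u}} (g : X ⟶ Y) [LocallyOfFiniteType g]
    (t : X) (ht : g.QuasiFiniteAt t) :
    ∃ O : X.Opens, t ∈ O ∧ ∀ t' ∈ O, g.base t' = g.base t → t' = t := by
  have h1 : IsOpen ({g.asFiber t} : Set ↥(g.fiber (g.base t))) :=
    Scheme.Hom.quasiFiniteAt_iff_isOpen_singleton_asFiber.mp ht
  have h2 := (g.fiberHomeo (g.base t)).isOpen_image.mpr h1
  obtain ⟨O, hO, hOeq⟩ := isOpen_induced_iff.mp h2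
  have h3 : (g.fiberHomeo (g.base t)) (g.asFiber t) = ⟨t, rfl⟩ :=
    (g.fiberHomeo (g.base t)).apply_symm_apply _
  rw [Set.image_singleton, h3] at hOeq
  refine ⟨⟨O, hO⟩, ?_, ?_⟩
  · have : (⟨t, rfl⟩ : ↥(g.base ⁻¹' {g.base t})) ∈ Subtype.val ⁻¹' O := by rw [hOeq]; rfl
    exact this
  · intro t' ht'O ht'
    have : (⟨t', ht'⟩ : ↥(g.base ⁻¹' {g.base t})) ∈ Subtype.val ⁻¹' O := ht'O
    rw [hOeq] at this
    exact congrArg Subtype.val this

/-- **EGA IV 14.5.10** (quasi-sections). -/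
theorem exists_quasiSection (X S : Scheme.{u}) (f : X ⟶ S) [LocallyOfFinitePresentation f]
    (s : S) (x : X) (hxs : f.base x = s)
    (hx : IsClosed ((Subtype.val : ↥(f.base ⁻¹' {s}) → X) ⁻¹' {x}))
    (Z : Set ↥(f.base ⁻¹' {s})) (hZ : Z ∈ irreducibleComponents ↥(f.base ⁻¹' {s}))
    (hxZ : x ∈ (Subtype.val '' Z))
    (z : X) (hz : z ∈ Subtype.val '' Z ∧ Subtype.val '' Z ⊆ closure {z})
    (hopen : EGA43.IsUnivOpenAt f z)
    (hdim : FlatMor.localDim ↥(f.base ⁻¹' {s}) ⟨x, hxs⟩ = topologicalKrullDim ↥Z) :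
    ∃ (S' S'' : Scheme.{u}) (_ : IsAffine S') (w : S' ⟶ S) (π : S'' ⟶ S') (h : S'' ⟶ X),
      Etale w ∧ IsFinite π ∧ Surjective π ∧ LocallyOfFinitePresentation π ∧ h ≫ f = π ≫ w ∧
      ∃ s'' : S'', (π ≫ w).base ⁻¹' {s} = {s''} ∧ h.base s'' = x ∧
        IsIso (h.residueFieldMap s'') := by
  classical
  -- basic facts on z
  have hzx : z ⤳ x := specializes_iff_mem_closure.mpr (hz.2 hxZ)
  have hzs : f.base z = s := by
    obtain ⟨⟨z₀, hz₀⟩, -, rfl⟩ := hz.1
    exact hz₀
  have hfz : f.base z = f.base x := hzs.trans hxs.symm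
  have hzmax : ∀ z' : X, f.base z' = f.base z → z' ⤳ z → z' = z := by
    intro z' hz'1 hz'2
    have hz's : f.base z' = s := hz'1.trans hzs
    obtain ⟨⟨z₀, hz₀⟩, hz₀Z, hz₀eq⟩ := hz.1
    have hz₀eq' : z₀ = z := hz₀eq
    subst hz₀eq'
    let ζ' : ↥(f.base ⁻¹' {s}) := ⟨z', hz's⟩
    let ζ : ↥(f.base ⁻¹' {s}) := ⟨z₀, hz₀⟩
    have h1 : ζ' ⤳ ζ := Topology.IsInducing.subtypeVal.specializes_iff.mp hz'2
    have hZsub : Z ⊆ closure {ζ'} := by
      intro t ht
      have h2 : t.1 ∈ closure ({z₀} : Set X) := hz.2 ⟨t, ht, rfl⟩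
      have h3 : z₀ ⤳ t.1 := specializes_iff_mem_closure.mpr h2
      have h4 : ζ ⤳ t := Topology.IsInducing.subtypeVal.specializes_iff.mp h3
      exact (h1.trans h4).mem_closure
    have h5 : closure {ζ'} ⊆ Z := hZ.2 isIrreducible_singleton.closure hZsub
    have h6 : ζ' ∈ Z := h5 (subset_closure rfl)
    have h7 : z' ∈ closure ({z₀} : Set X) := hz.2 ⟨ζ', h6, rfl⟩
    exact (hz'2.antisymm (specializes_iff_mem_closure.mpr h7)).eq
  -- the dimension
  obtain ⟨n, hn⟩ := exists_nat_eq_fibreDimAt f x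
  have hnz : FlatMor.fibreDimAt f z = n := by
    rw [← dim_irreducibleComponent_preimage_eq_fibreDimAt f s Z hZ z hz, ← hdim,
      localDim_preimage_singleton_eq]
    exact hn
  -- closedness of x in its fibre
  have hcl : ∀ x' : X, f.base x' = f.base x → x ⤳ x' → x' = x := by
    intro x' h1 h2
    let ζ : ↥(f.base ⁻¹' {s}) := ⟨x, hxs⟩
    let ζ' : ↥(f.base ⁻¹' {s}) := ⟨x', h1.trans hxs⟩
    have h3 : ζ ⤳ ζ' := Topology.IsInducing.subtypeVal.specializes_iff.mp h2
    have h4 : ζ' ∈ closure ({ζ} : Set ↥(f.base ⁻¹' {s})) := h3.mem_closure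
    have h5 : closure ({ζ} : Set ↥(f.base ⁻¹' {s})) ⊆ Subtype.val ⁻¹' {x} :=
      closure_minimal (by rintro _ rfl; rfl) hx
    exact h5 h4
  -- the chart
  obtain ⟨_, ⟨(V : S.Opens), hV, rfl⟩, hxV, -⟩ :=
    S.isBasis_affineOpens.exists_subset_of_mem_open (Set.mem_univ (f.base x)) isOpen_univ
  have hV' : IsAffineOpen V := hV
  obtain ⟨U, hUV, hxU, hU, π, hπ, hπqf, hπft, hpt⟩ :=
    exists_lqf_chart_pointed f x n hn hcl V hV' hxV
  set f₁ := f.resLE V U hUV with hf₁
  have hcomm : ∀ t : ↥U, f.base t.1 = (f₁.base t).1 := by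
    intro t
    have := congrArg (fun m => m.base t) (Scheme.Hom.resLE_comp_ι f hUV)
    exact this.symm
  have hzU : z ∈ U := hzx.mem_open U.isOpen hxU
  let x₁ : ↥U := ⟨x, hxU⟩
  let z₁ : ↥U := ⟨z, hzU⟩
  have hUOπ : EGA43.IsUnivOpenAt π x₁ := by
    apply isUnivOpenAt_of_lqf_affineSpace f₁ n π hπ x₁ z₁
    · exact U.ι.isOpenEmbedding.isInducing.specializes_iff.mp hzx
    · apply Subtype.ext
      have e1 : f.base x = (f₁.base x₁).1 := hcomm x₁
      have e2 : f.base z = (f₁.base z₁).1 := hcomm z₁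
      rw [← e1, ← e2]
      exact hfz
    · intro z' h1 h2
      apply Subtype.ext
      apply hzmax z'.1
      · have e1 : f.base z'.1 = (f₁.base z').1 := hcomm z'
        have e2 : f.base z = (f₁.base z₁).1 := hcomm z₁
        rw [e1, h1]; exact e2.symm
      · exact h2.map U.ι.continuous
    · exact isUnivOpenAt_of_isOpenImmersion_of_mono f f₁ U.ι V.ι
        (Scheme.Hom.resLE_comp_ι f hUV) z₁ hopen
    · rw [hf₁, fibreDimAt_resLE, hnz]
  -- base change along the zero section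
  have hf₁fp : LocallyOfFinitePresentation
      (π ≫ (𝔸(ULift.{u} (Fin n); (V : Scheme.{u})) ↘ (V : Scheme.{u}))) := by
    rw [hπ]; infer_instance
  haveI hπfp : LocallyOfFinitePresentation π :=
    Groth.Agent.H17.locallyOfFinitePresentation_of_comp π
      (𝔸(ULift.{u} (Fin n); (V : Scheme.{u})) ↘ (V : Scheme.{u}))
  set zero := zeroSection (V : Scheme.{u}) n with hzero
  have sq0 : IsPullback (pullback.fst π zero) (pullback.snd π zero) π zero :=
    IsPullback.of_hasPullback _ _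
  obtain ⟨x₀, hx₀1, hx₀2⟩ := exists_of_isPullback sq0 x₁ ⟨f.base x, hxV⟩ hpt
  set f₀ := pullback.snd π zero with hf₀
  set a₀ := pullback.fst π zero with ha₀
  have hUO₀ : EGA43.IsUnivOpenAt f₀ x₀ :=
    isUnivOpenAt_of_isPullback π zero f₀ a₀ sq0 x₀ (by rw [hx₀1]; exact hUOπ)
  haveI : LocallyQuasiFinite f₀ := inferInstanceAs (LocallyQuasiFinite (pullback.snd π zero))
  haveI : LocallyOfFinitePresentation f₀ :=
    inferInstanceAs (LocallyOfFinitePresentation (pullback.snd π zero))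
  haveI : LocallyOfFiniteType f₀ := inferInstance
  -- etale localization
  obtain ⟨U', g, σ, hU'aff, hget, hσ, V', hV'fin, ⟨v, hvV', hv1, hv2⟩, huniq⟩ :=
    Groth.Agent.H53.ZMT.exists_elementary_etale_finite_of_quasiFiniteAt f₀
      (rfl : f₀.base x₀ = f₀.base x₀) (f₀.quasiFiniteAt x₀)
  set p := pullback.snd f₀ g with hp
  set a := pullback.fst f₀ g with ha
  let pt : ↥(Spec ((V : Scheme.{u}).residueField (f₀.base x₀))) :=
    IsLocalRing.closedPoint ((V : Scheme.{u}).residueField (f₀.base x₀))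
  set s' := σ.base pt with hs'
  have hpv : p.base v = s' := hv2 pt
  have hgs' : g.base s' = f₀.base x₀ := by
    have h1 : (σ ≫ g).base pt = ((V : Scheme.{u}).fromSpecResidueField (f₀.base x₀)).base pt := by
      rw [hσ]
    rw [Scheme.Hom.comp_apply] at h1
    rw [hs', h1]
    exact Scheme.fromSpecResidueField_apply _ _
  -- openness at v
  have hopenP : EGA43.IsOpenAt p.base v := hUO₀ U' g v hv1
  have himg : p.base '' (V' : Set ↥(pullback f₀ g)) ∈ nhds s' := by
    have := hopenP V' (V'.isOpen.mem_nhds hvV')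
    rwa [hpv] at this
  -- an isolating neighbourhood of s' in its fibre
  haveI : LocallyQuasiFinite g := locallyQuasiFinite_of_etale' g
  obtain ⟨O, hs'O, hO⟩ := exists_open_inter_fibre_eq_singleton g s' (g.quasiFiniteAt s')
  have hW : IsOpen ((O : Set ↥U') ∩ interior (p.base '' (V' : Set ↥(pullback f₀ g)))) :=
    O.isOpen.inter isOpen_interior
  have hs'W : s' ∈ (O : Set ↥U') ∩ interior (p.base '' (V' : Set ↥(pullback f₀ g))) :=
    ⟨hs'O, mem_interior_iff_mem_nhds.mpr himg⟩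
  obtain ⟨_, ⟨(S' : U'.Opens), hS', rfl⟩, hs'S', hS'sub⟩ :=
    U'.isBasis_affineOpens.exists_subset_of_mem_open hs'W hW
  have hS'aff : IsAffineOpen S' := hS'
  set ψ := V'.ι ≫ p with hψ
  let S'' : V'.toScheme.Opens := ψ ⁻¹ᵁ S'
  let π' : (S'' : Scheme.{u}) ⟶ (S' : Scheme.{u}) := ψ ∣_ S'
  let w : (S' : Scheme.{u}) ⟶ S := S'.ι ≫ g ≫ V.ι
  let h : (S'' : Scheme.{u}) ⟶ X := S''.ι ≫ V'.ι ≫ a ≫ a₀ ≫ U.ι
  have hπ'ι : π' ≫ S'.ι = S''.ι ≫ ψ := morphismRestrict_ι ψ S'
  have hπ'pt : ∀ t : ↥S'', (π'.base t).1 = p.base t.1.1 := by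
    intro t
    have := congrArg (fun k => k.base t) hπ'ι
    exact this
  refine ⟨S', S'', hS'aff, w, π', h, inferInstance, inferInstance, ?_, inferInstance, ?_, ?_⟩
  · -- surjective
    constructor
    intro t
    have h1 : t.1 ∈ p.base '' (V' : Set ↥(pullback f₀ g)) := interior_subset (hS'sub t.2).2
    obtain ⟨q, hqV', hq⟩ := h1
    have hmem : (⟨q, hqV'⟩ : ↥V') ∈ S'' := by
      change ψ.base ⟨q, hqV'⟩ ∈ S'
      change p.base q ∈ S'
      rw [hq]; exact t.2
    refine ⟨⟨⟨q, hqV'⟩, hmem⟩, ?_⟩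
    apply Subtype.ext
    rw [hπ'pt]
    exact hq
  · -- commutativity
    have e1 : U.ι ≫ f = f₁ ≫ V.ι := (Scheme.Hom.resLE_comp_ι f hUV).symm
    have e2 : a₀ ≫ f₁ = f₀ := by
      rw [← hπ, ← Category.assoc, sq0.w, Category.assoc]
      erw [zeroSection_over]
      rw [Category.comp_id]
    have e3 : a ≫ f₀ = p ≫ g := pullback.condition
    calc h ≫ f = S''.ι ≫ V'.ι ≫ a ≫ a₀ ≫ (U.ι ≫ f) := by simp only [h, Category.assoc]
      _ = S''.ι ≫ V'.ι ≫ a ≫ (a₀ ≫ f₁) ≫ V.ι := by rw [e1]; simp only [Category.assoc]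
      _ = S''.ι ≫ V'.ι ≫ (a ≫ f₀) ≫ V.ι := by rw [e2]; simp only [Category.assoc]
      _ = (S''.ι ≫ ψ) ≫ g ≫ V.ι := by rw [e3]; simp only [hψ, Category.assoc]
      _ = π' ≫ w := by rw [← hπ'ι]; simp only [w, Category.assoc]
  · have hvS'' : (⟨v, hvV'⟩ : ↥V') ∈ S'' := by
      change p.base v ∈ S'
      rw [hpv]; exact hs'S'
    let s'' : ↥S'' := ⟨⟨v, hvV'⟩, hvS''⟩
    have hsec := eq_and_isIso_residueFieldMap_of_section f₀ g (f₀.base x₀) σ hσ v
      (by rw [← hp, hpv]; exact ⟨pt, rfl⟩)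
    have hwpt : ∀ t : ↥S'', (π' ≫ w).base t = V.ι.base (g.base (p.base t.1.1)) := by
      intro t
      change V.ι.base (g.base (S'.ι.base (π'.base t))) = _
      have : S'.ι.base (π'.base t) = p.base t.1.1 := hπ'pt t
      rw [this]
    have hVx₀ : V.ι.base (f₀.base x₀) = s := by
      rw [hx₀2]; exact hxs
    refine ⟨s'', ?_, ?_, ?_⟩
    · ext t
      simp only [Set.mem_preimage, Set.mem_singleton_iff]
      constructor
      · intro ht
        have ht' : V.ι.base (g.base (p.base t.1.1)) = s := (hwpt t).symm.trans ht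
        have h2 : g.base (p.base t.1.1) = f₀.base x₀ := by
          apply V.ι.isOpenEmbedding.injective
          rw [ht', hVx₀]
        have hmemO : p.base t.1.1 ∈ O := by
          have h3 : (π'.base t).1 ∈ (S' : Set ↥U') := (π'.base t).2
          have h4 : (π'.base t).1 = p.base t.1.1 := hπ'pt t
          rw [h4] at h3
          exact (hS'sub h3).1
        have h3 : p.base t.1.1 = s' := hO _ hmemO (h2.trans hgs'.symm)
        have h4 : a.base t.1.1 = x₀ := huniq t.1.1 t.1.2 ⟨pt, h3⟩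
        have h5 : t.1.1 = v := hsec.2 t.1.1 (by rw [← hp, h3]; exact ⟨pt, rfl⟩)
          (h4.trans hv1.symm)
        exact Subtype.ext (Subtype.ext h5)
      · rintro rfl
        refine (hwpt s'').trans ?_
        change V.ι.base (g.base (p.base v)) = s
        rw [hpv, hgs', hVx₀]
    · change U.ι.base (a₀.base (a.base v)) = x
      rw [hv1, hx₀1]
      rfl
    · -- residue fields
      have hcomp : ∀ {A B C : Scheme.{u}} (k : A ⟶ B) (l : B ⟶ C) (t : A),
          IsIso (k.residueFieldMap t) → IsIso (l.residueFieldMap (k.base t)) →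
          IsIso ((k ≫ l).residueFieldMap t) := by
        intro A B C k l t h1 h2
        rw [Scheme.residueFieldMap_comp]
        exact IsIso.comp_isIso' h2 h1
      haveI : IsClosedImmersion zero := by
        haveI : IsClosedImmersion (zero ≫ (𝔸(ULift.{u} (Fin n); (V : Scheme.{u})) ↘
            (V : Scheme.{u}))) := by
          rw [hzero, zeroSection_over]; infer_instance
        exact IsClosedImmersion.of_comp zero
          (𝔸(ULift.{u} (Fin n); (V : Scheme.{u})) ↘ (V : Scheme.{u}))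
      haveI : IsClosedImmersion a₀ := inferInstanceAs (IsClosedImmersion (pullback.fst π zero))
      apply hcomp
      · exact Groth.Agent.H53.isIso_residueFieldMap_of_isPreimmersion _ _
      apply hcomp
      · exact Groth.Agent.H53.isIso_residueFieldMap_of_isPreimmersion _ _
      apply hcomp
      · exact hsec.1
      apply hcomp
      · exact Groth.Agent.H53.isIso_residueFieldMap_of_isPreimmersion _ _
      · exact Groth.Agent.H53.isIso_residueFieldMap_of_isPreimmersion _ _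

end Groth.Agent.H17.QS
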