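import Groth.Agent.H17.FibreNoether

/-!
# Pointed Noether normalisation of a fibre
-/

set_option autoImplicit false
set_option linter.style.haveILetI false
open scoped TensorProduct

namespace Groth.Agent.H17.QS

universe u

/-- The endomorphism `X_i ↦ P_i(X_i)` of a polynomial ring, with all `P_i` monic of positive
degree, is finite. -/
theorem finite_aeval_monic {K : Type*} [CommRing K] [Nontrivial K] {s : ℕ} (P : Fin s → Polynomial K)
    (hP : ∀ i, (P i).Monic) (hdeg : ∀ i, 0 < (P i).natDegree) :
    (MvPolynomial.aeval (fun i => Polynomial.aeval (MvPolynomial.X i : MvPolynomial (Fin s) K) (P i)) :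
      MvPolynomial (Fin s) K →ₐ[K] MvPolynomial (Fin s) K).toRingHom.Finite := by
  set ψ : MvPolynomial (Fin s) K →ₐ[K] MvPolynomial (Fin s) K :=
    MvPolynomial.aeval (fun i => Polynomial.aeval (MvPolynomial.X i : MvPolynomial (Fin s) K) (P i))
    with hψ
  apply RingHom.IsIntegral.to_finite
  · -- integral
    intro p
    induction p using MvPolynomial.induction_on with
    | C a =>
      have : (MvPolynomial.C a : MvPolynomial (Fin s) K) = ψ.toRingHom (MvPolynomial.C a) := by
        simp [hψ]
      rw [this]
      exact ψ.toRingHom.isIntegralElem_map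
    | add p q hp hq => exact RingHom.IsIntegralElem.add _ hp hq
    | mul_X p i hp =>
      refine RingHom.IsIntegralElem.mul _ hp ?_
      -- X i is integral
      refine ⟨(P i).map (algebraMap K (MvPolynomial (Fin s) K)) -
        Polynomial.C (MvPolynomial.X i : MvPolynomial (Fin s) K), ?_, ?_⟩
      · apply Polynomial.Monic.sub_of_left ((hP i).map _)
        refine (Polynomial.degree_C_le).trans_lt ?_
        rw [Polynomial.degree_eq_natDegree ((hP i).map _).ne_zero, (hP i).natDegree_map]
        exact_mod_cast hdeg i
      · rw [Polynomial.eval₂_sub, Polynomial.eval₂_C, Polynomial.eval₂_map]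
        have h1 : ψ.toRingHom.comp (algebraMap K (MvPolynomial (Fin s) K)) =
            algebraMap K (MvPolynomial (Fin s) K) := by
          ext a
          simp [hψ]
        rw [h1]
        have h2 : ψ.toRingHom (MvPolynomial.X i) =
            Polynomial.aeval (MvPolynomial.X i : MvPolynomial (Fin s) K) (P i) := by
          simp [hψ]
        rw [h2, Polynomial.aeval_def, sub_self]
  · -- finite type
    have h1 : (ψ.toRingHom.comp (algebraMap K (MvPolynomial (Fin s) K))).FiniteType := by
      have : ψ.toRingHom.comp (algebraMap K (MvPolynomial (Fin s) K)) =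
          algebraMap K (MvPolynomial (Fin s) K) := by
        ext a
        simp [hψ]
      rw [this]
      exact RingHom.finiteType_algebraMap.mpr inferInstance
    exact RingHom.FiniteType.of_comp_finiteType h1

/-- Pointed Noether normalisation of the fibre ring `C = K ⊗[A] B` at a maximal ideal `m`:
the coordinates can be chosen in `B` with images in `m`. -/
theorem exists_finite_aeval_of_isPushout_pointed (A K B C : Type*) [CommRing A] [Field K]
    [CommRing B]
    [CommRing C] [Algebra A K] [Algebra A B] [Algebra A C] [Algebra K C] [Algebra B C]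
    [IsScalarTower A K C] [IsScalarTower A B C] [Algebra.IsPushout A K B C]
    [Algebra.FiniteType A B]
    (hK : ∀ k : K, ∃ a r : A, algebraMap A K r ≠ 0 ∧ k * algebraMap A K r = algebraMap A K a)
    (d : ℕ) (hd : ringKrullDim C = d) (m : Ideal C) [hm : m.IsMaximal] :
    ∃ b : Fin d → B, (∀ i, algebraMap B C (b i) ∈ m) ∧
      (MvPolynomial.aeval (fun i => algebraMap B C (b i)) :
        MvPolynomial (Fin d) K →ₐ[K] C).Finite := by
  have hnt : Nontrivial C := by
    by_contra h
    rw [not_nontrivial_iff_subsingleton] at h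
    rw [ringKrullDim_eq_bot_of_subsingleton] at hd
    exact absurd hd (by simp)
  have hft : Algebra.FiniteType K C :=
    Algebra.FiniteType.equiv (inferInstance : Algebra.FiniteType K (K ⊗[A] B))
      (Algebra.IsPushout.equiv A K B C)
  obtain ⟨s, g, hginj, hgfin⟩ := exists_finite_inj_algHom_of_fg K C
  have hs : s = d := by
    have h1 := Groth.Agent.H54.ringKrullDim_eq_of_ringHom_isIntegral_of_injective g.toRingHom
      (RingHom.Finite.to_isIntegral hgfin) hginj
    rw [Groth.Agent.H54.ringKrullDim_mvPolynomial_fin_field, hd] at h1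
    exact_mod_cast h1
  subst hs
  -- the residue field at `m` is finite over `K`
  letI : Field (C ⧸ m) := Ideal.Quotient.field m
  haveI : Algebra.FiniteType K (C ⧸ m) :=
    Algebra.FiniteType.of_surjective (Ideal.Quotient.mkₐ K m) (Ideal.Quotient.mkₐ_surjective K m)
  haveI : Module.Finite K (C ⧸ m) := finite_of_finite_type_of_isJacobsonRing K (C ⧸ m)
  have hint : ∀ i : Fin s, IsIntegral K (Ideal.Quotient.mk m (g (MvPolynomial.X i))) :=
    fun i => Algebra.IsIntegral.isIntegral _
  let P : Fin s → Polynomial K := fun i => minpoly K (Ideal.Quotient.mk m (g (MvPolynomial.X i)))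
  have hPmonic : ∀ i, (P i).Monic := fun i => minpoly.monic (hint i)
  have hPdeg : ∀ i, 0 < (P i).natDegree := fun i => minpoly.natDegree_pos (hint i)
  let ψ : MvPolynomial (Fin s) K →ₐ[K] MvPolynomial (Fin s) K :=
    MvPolynomial.aeval (fun i => Polynomial.aeval (MvPolynomial.X i : MvPolynomial (Fin s) K) (P i))
  have hψfin : ψ.toRingHom.Finite := finite_aeval_monic P hPmonic hPdeg
  let g' : MvPolynomial (Fin s) K →ₐ[K] C := g.comp ψ
  have hg'fin : g'.toRingHom.Finite := RingHom.Finite.comp hgfin hψfin
  have hg'X : ∀ i, g' (MvPolynomial.X i) = Polynomial.aeval (g (MvPolynomial.X i)) (P i) := by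
    intro i
    simp only [g', ψ, AlgHom.comp_apply, MvPolynomial.aeval_X]
    rw [← Polynomial.aeval_algHom_apply]
  have hg'm : ∀ i, g' (MvPolynomial.X i) ∈ m := by
    intro i
    rw [hg'X, ← Ideal.Quotient.eq_zero_iff_mem]
    have h1 : Ideal.Quotient.mk m (Polynomial.aeval (g (MvPolynomial.X i)) (P i)) =
        Polynomial.aeval (Ideal.Quotient.mk m (g (MvPolynomial.X i))) (P i) := by
      have := Polynomial.aeval_algHom_apply (Ideal.Quotient.mkₐ K m) (g (MvPolynomial.X i)) (P i)
      exact this.symm
    rw [h1]
    exact minpoly.aeval K _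
  have hz : ∀ z : C, ∃ r : A, algebraMap A K r ≠ 0 ∧ ∃ b : B,
      algebraMap A K r • z = algebraMap B C b := by
    intro z
    obtain ⟨r, hr, b, hb⟩ := exists_smul_eq_one_tmul' (B := B) hK
      ((Algebra.IsPushout.equiv A K B C).symm z)
    refine ⟨r, hr, b, ?_⟩
    have := congrArg (Algebra.IsPushout.equiv A K B C) hb
    rwa [map_smul, AlgEquiv.apply_symm_apply, Algebra.IsPushout.equiv_tmul, map_one, one_mul]
      at this
  choose r hu b hb using fun i : Fin s => hz (g' (MvPolynomial.X i))
  refine ⟨b, ?_, ?_⟩
  · intro i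
    rw [← hb i, Algebra.smul_def]
    exact m.mul_mem_left _ (hg'm i)
  let τ : MvPolynomial (Fin s) K →ₐ[K] MvPolynomial (Fin s) K :=
    MvPolynomial.aeval (fun i => MvPolynomial.C (algebraMap A K (r i)) * MvPolynomial.X i)
  let τ' : MvPolynomial (Fin s) K →ₐ[K] MvPolynomial (Fin s) K :=
    MvPolynomial.aeval (fun i => MvPolynomial.C (algebraMap A K (r i))⁻¹ * MvPolynomial.X i)
  have hττ' : τ.comp τ' = AlgHom.id K _ := by
    apply MvPolynomial.algHom_ext
    intro i
    simp only [τ, τ', AlgHom.comp_apply, MvPolynomial.aeval_X, map_mul, MvPolynomial.aeval_C,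
      AlgHom.id_apply, MvPolynomial.algebraMap_eq]
    rw [← mul_assoc, ← map_mul, inv_mul_cancel₀ (hu i), map_one, one_mul]
  have hτsurj : Function.Surjective τ := fun x => ⟨τ' x, by
    have := congrArg (fun f => f x) hττ'
    simpa using this⟩
  have key : (MvPolynomial.aeval (fun i => algebraMap B C (b i)) : MvPolynomial (Fin s) K →ₐ[K] C)
      = g'.comp τ := by
    apply MvPolynomial.algHom_ext
    intro i
    rw [MvPolynomial.aeval_X, ← hb i]
    simp only [τ, AlgHom.comp_apply, MvPolynomial.aeval_X]
    rw [MvPolynomial.C_mul', map_smul]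
  rw [key]
  exact RingHom.Finite.comp hg'fin (RingHom.Finite.of_surjective _ hτsurj)

end Groth.Agent.H17.QS
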