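import Groth.Agent.H17.FibreNoetherScheme
import Groth.Agent.H17.QS.PtNoether

/-!
# Pointed Noether normalisation of a fibre, scheme version
-/

set_option autoImplicit false
set_option linter.style.haveILetI false
open CategoryTheory CategoryTheory.Limits AlgebraicGeometry

universe u
namespace Groth.Agent.H17.QS

open Groth.Agent.H17

theorem exists_finite_eval₂Hom_of_isPushout_pointed {A B C : CommRingCat.{u}} (K : Type u) [Field K]
    (f : A ⟶ B) (φ : A ⟶ CommRingCat.of K) (i1 : B ⟶ C) (i2 : CommRingCat.of K ⟶ C)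
    (h : IsPushout f φ i1 i2) (hf : f.hom.FiniteType)
    (hK : ∀ k : K, ∃ a r : A, φ.hom r ≠ 0 ∧ k * φ.hom r = φ.hom a) (d : ℕ)
    (hd : ringKrullDim C = d) (m : Ideal C) [m.IsMaximal] :
    ∃ b : Fin d → B, (∀ i, i1.hom (b i) ∈ m) ∧
      (MvPolynomial.eval₂Hom i2.hom (fun i => i1.hom (b i))).Finite := by
  algebraize [f.hom, φ.hom, i1.hom, i2.hom, i1.hom.comp f.hom]
  have : IsScalarTower A K C := .of_algebraMap_eq' <| congr($(h.1.1).hom)
  have h1 : Algebra.IsPushout A B K C := CommRingCat.isPushout_iff_isPushout.mp h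
  have h2 : Algebra.IsPushout A K B C := h1.symm
  obtain ⟨b, hbm, hb⟩ := exists_finite_aeval_of_isPushout_pointed A K B C hK d hd m
  exact ⟨b, hbm, hb⟩

/-- The zero section of affine space. -/
noncomputable def zeroSection (Y : Scheme.{u}) (e : ℕ) : Y ⟶ 𝔸(ULift.{u} (Fin e); Y) :=
  AffineSpace.homOfVector (𝟙 Y) (fun _ => 0)

@[simp]
theorem zeroSection_over (Y : Scheme.{u}) (e : ℕ) :
    zeroSection Y e ≫ (𝔸(ULift.{u} (Fin e); Y) ↘ Y) = 𝟙 Y :=
  AffineSpace.homOfVector_over _ _

/-- A morphism to affine space whose coordinates vanish at `x` sends `x` into the zero section. -/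
theorem apply_eq_zeroSection_of_forall_notMem_basicOpen {X Y : Scheme.{u}} (e : ℕ)
    (g : X ⟶ 𝔸(ULift.{u} (Fin e); Y)) (x : X)
    (hx : ∀ i, x ∉ X.basicOpen (g.appTop.hom (AffineSpace.coord Y i))) :
    g.base x = (zeroSection Y e).base ((g ≫ (𝔸(ULift.{u} (Fin e); Y) ↘ Y)).base x) := by
  set q := (𝔸(ULift.{u} (Fin e); Y) ↘ Y) with hq
  let α := X.fromSpecResidueField x ≫ g
  let β := X.fromSpecResidueField x ≫ (g ≫ q) ≫ zeroSection Y e
  have hαβ : α = β := by
    apply AffineSpace.hom_ext
    · simp only [α, β, Category.assoc]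
      erw [zeroSection_over]
      rw [Category.comp_id]
    · intro i
      have hβ : β.appTop.hom (AffineSpace.coord Y i) = 0 := by
        simp only [β, Scheme.Hom.comp_appTop, CommRingCat.hom_comp, RingHom.comp_apply]
        have : (zeroSection Y e).appTop.hom (AffineSpace.coord Y i) = 0 := by
          unfold zeroSection
          erw [AffineSpace.homOfVector_appTop_coord]
        rw [this]
        simp only [map_zero]
      have hα : α.appTop.hom (AffineSpace.coord Y i) = 0 := by
        simp only [α, Scheme.Hom.comp_appTop, CommRingCat.hom_comp, RingHom.comp_apply]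
        have h1 := (X.evaluation_eq_zero_iff_notMem_basicOpen (U := ⊤) x trivial
          (g.appTop.hom (AffineSpace.coord Y i))).mpr (hx i)
        have h2 := fromSpecResidueField_appTop_ΓSpecIso X x trivial
        have h3 : (Scheme.ΓSpecIso (X.residueField x)).hom.hom
            ((X.fromSpecResidueField x).appTop.hom (g.appTop.hom (AffineSpace.coord Y i))) = 0 := by
          have := congrArg (fun k => k.hom (g.appTop.hom (AffineSpace.coord Y i))) h2
          simp only [CommRingCat.hom_comp, RingHom.comp_apply] at this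
          rw [this]
          exact h1
        have hinj : Function.Injective (Scheme.ΓSpecIso (X.residueField x)).hom.hom :=
          (ConcreteCategory.bijective_of_isIso (Scheme.ΓSpecIso (X.residueField x)).hom).1
        apply hinj
        rw [h3, map_zero]
      exact hα.trans hβ.symm
  let pt : ↥(Spec (X.residueField x)) := IsLocalRing.closedPoint (X.residueField x)
  have hpt : (X.fromSpecResidueField x).base pt = x :=
    X.fromSpecResidueField_apply x _
  have h1 : α.base pt = β.base pt := by rw [hαβ]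
  have h2 : α.base pt = g.base ((X.fromSpecResidueField x).base pt) := rfl
  have h3 : β.base pt = (zeroSection Y e).base ((g ≫ q).base ((X.fromSpecResidueField x).base pt)) :=
    rfl
  rw [h2, h3, hpt] at h1
  exact h1

set_option backward.isDefEq.respectTransparency.types false in
theorem exists_hom_affineSpace_finite_fibre_pointed {X Y : Scheme.{u}} [IsAffine X] [IsAffine Y]
    (f : X ⟶ Y) [LocallyOfFiniteType f] (y : Y) (e : ℕ)
    (he : topologicalKrullDim ↥(f.fiber y) = e) (ξ : ↥(f.fiber y))
    (hξ : IsClosed ({ξ} : Set ↥(f.fiber y))) :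
    ∃ g : X ⟶ 𝔸(ULift.{u} (Fin e); Y), g ≫ (𝔸(ULift.{u} (Fin e); Y) ↘ Y) = f ∧
      IsFinite (pullback.snd g ((𝔸(ULift.{u} (Fin e); Y) ↘ Y).fiberι y)) ∧
      g.base ((f.fiberι y).base ξ) = (zeroSection Y e).base y := by
  have hyt : y ∈ (⊤ : Y.Opens) := trivial
  let φ : Γ(Y, ⊤) ⟶ Y.residueField y :=
    (Y.fromSpecResidueField y).appTop ≫ (Scheme.ΓSpecIso (Y.residueField y)).hom
  have hφ : φ = Y.evaluation ⊤ y hyt := fromSpecResidueField_appTop_ΓSpecIso Y y hyt
  have hpo0 := isPushout_appTop_of_isPullback (IsPullback.of_hasPullback f (Y.fromSpecResidueField y))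
  have hpo : IsPushout f.appTop φ (f.fiberι y).appTop
      ((Scheme.ΓSpecIso (Y.residueField y)).inv ≫ (f.fiberToSpecResidueField y).appTop) :=
    IsPushout.of_iso hpo0 (Iso.refl _) (Iso.refl _) (Scheme.ΓSpecIso (Y.residueField y)) (Iso.refl _)
      (by simp) (by simp [φ]) (Category.comp_id _) (by simp [Scheme.Hom.fiberToSpecResidueField]; exact Category.comp_id _)
  have hft : f.appTop.hom.FiniteType :=
    (HasRingHomProperty.iff_of_isAffine (P := @LocallyOfFiniteType)).mp inferInstance
  haveI hAW : IsAffine (f.fiber y) :=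
    inferInstanceAs (IsAffine (pullback f (Y.fromSpecResidueField y)))
  have hdim : ringKrullDim Γ(f.fiber y, ⊤) = e := by
    rw [← topologicalKrullDim_of_isAffine, he]
  have hK : ∀ k : Y.residueField y, ∃ a r : Γ(Y, ⊤), φ.hom r ≠ 0 ∧ k * φ.hom r = φ.hom a := by
    rw [hφ]
    exact evaluation_fraction Y y hyt
  -- the maximal ideal of `ξ`
  have hWtop : IsAffineOpen (⊤ : (f.fiber y).Opens) := isAffineOpen_top _
  let m : PrimeSpectrum Γ(f.fiber y, ⊤) := hWtop.primeIdealOf ⟨ξ, trivial⟩
  have hmξ : hWtop.fromSpec.base m = ξ := hWtop.fromSpec_primeIdealOf ⟨ξ, trivial⟩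
  haveI hmax : m.asIdeal.IsMaximal := by
    rw [← PrimeSpectrum.isClosed_singleton_iff_isMaximal]
    have h1 : ({m} : Set (PrimeSpectrum Γ(f.fiber y, ⊤))) = hWtop.fromSpec.base ⁻¹' {ξ} := by
      ext t
      simp only [Set.mem_singleton_iff, Set.mem_preimage]
      constructor
      · rintro rfl; exact hmξ
      · intro ht
        apply hWtop.fromSpec.isOpenEmbedding.injective
        rw [hmξ]; exact ht
    rw [h1]
    exact hξ.preimage hWtop.fromSpec.continuous
  obtain ⟨b, hbm, hb⟩ := exists_finite_eval₂Hom_of_isPushout_pointed (Y.residueField y) f.appTop φ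
    (f.fiberι y).appTop
    ((Scheme.ΓSpecIso (Y.residueField y)).inv ≫ (f.fiberToSpecResidueField y).appTop) hpo hft hK e
    hdim m.asIdeal
  set q := 𝔸(ULift.{u} (Fin e); Y) ↘ Y with hq
  let g : X ⟶ 𝔸(ULift.{u} (Fin e); Y) := AffineSpace.homOfVector f (fun i => b i.down)
  have hgq : g ≫ q = f := AffineSpace.homOfVector_over _ _
  refine ⟨g, hgq, ?_, ?_⟩
  · have hpb : IsPullback (pullback.fst g (q.fiberι y))
        (pullback.snd g (q.fiberι y) ≫ q.fiberToSpecResidueField y) (g ≫ q)
        (Y.fromSpecResidueField y) :=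
      (IsPullback.of_hasPullback g (q.fiberι y)).paste_vert
        (IsPullback.of_hasPullback q (Y.fromSpecResidueField y))
    rw [hgq] at hpb
    let θ : pullback g (q.fiberι y) ≅ f.fiber y := hpb.isoPullback
    have hθ1 : θ.hom ≫ f.fiberι y = pullback.fst g (q.fiberι y) := hpb.isoPullback_hom_fst
    have hθ2 : θ.hom ≫ f.fiberToSpecResidueField y =
        pullback.snd g (q.fiberι y) ≫ q.fiberToSpecResidueField y := hpb.isoPullback_hom_snd
    let h' : f.fiber y ⟶ q.fiber y := θ.inv ≫ pullback.snd g (q.fiberι y)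
    have hh1 : h' ≫ q.fiberι y = f.fiberι y ≫ g :=
      calc h' ≫ q.fiberι y = θ.inv ≫ (pullback.snd g (q.fiberι y) ≫ q.fiberι y) :=
            Category.assoc _ _ _
        _ = θ.inv ≫ (pullback.fst g (q.fiberι y) ≫ g) := by rw [pullback.condition]
        _ = θ.inv ≫ ((θ.hom ≫ f.fiberι y) ≫ g) := by rw [hθ1]
        _ = f.fiberι y ≫ g := by rw [Category.assoc, Iso.inv_hom_id_assoc]
    have hh2 : h' ≫ q.fiberToSpecResidueField y = f.fiberToSpecResidueField y :=
      calc h' ≫ q.fiberToSpecResidueField y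
          = θ.inv ≫ (pullback.snd g (q.fiberι y) ≫ q.fiberToSpecResidueField y) :=
            Category.assoc _ _ _
        _ = θ.inv ≫ (θ.hom ≫ f.fiberToSpecResidueField y) := by rw [hθ2]
        _ = f.fiberToSpecResidueField y := by rw [Iso.inv_hom_id_assoc]
    have hsnd : pullback.snd g (q.fiberι y) = θ.hom ≫ h' := by
      change _ = θ.hom ≫ θ.inv ≫ _
      rw [Iso.hom_inv_id_assoc]
    have : IsAffine (q.fiber y) := inferInstanceAs (IsAffine (pullback q (Y.fromSpecResidueField y)))
    suffices hfin : IsFinite h' by rw [hsnd]; infer_instance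
    rw [HasAffineProperty.iff_of_isAffine (P := @IsFinite)]
    refine ⟨inferInstance, ?_⟩
    let ψ : MvPolynomial (Fin e) (Y.residueField y) →+* Γ(q.fiber y, ⊤) :=
      MvPolynomial.eval₂Hom
        ((Scheme.ΓSpecIso (Y.residueField y)).inv ≫ (q.fiberToSpecResidueField y).appTop).hom
        (fun i => (q.fiberι y).appTop.hom (AffineSpace.coord Y ⟨i⟩))
    have hcomp : h'.appTop.hom.comp ψ = MvPolynomial.eval₂Hom
        ((Scheme.ΓSpecIso (Y.residueField y)).inv ≫ (f.fiberToSpecResidueField y).appTop).hom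
        (fun i => (f.fiberι y).appTop.hom (b i)) := by
      apply MvPolynomial.ringHom_ext
      · intro r
        simp only [ψ, RingHom.comp_apply, MvPolynomial.eval₂Hom_C]
        rw [← hh2, Scheme.Hom.comp_appTop]
        rfl
      · intro i
        simp only [ψ, RingHom.comp_apply, MvPolynomial.eval₂Hom_X']
        have := congrArg (fun m => m.appTop.hom (AffineSpace.coord Y ⟨i⟩)) hh1
        simp only [Scheme.Hom.comp_appTop] at this
        refine this.trans ?_
        simp only [CommRingCat.hom_comp, RingHom.comp_apply, g]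
        erw [AffineSpace.homOfVector_appTop_coord]
    exact RingHom.Finite.of_comp_finite (f := ψ) (by rw [hcomp]; exact hb)
  · -- the point
    have h1 := apply_eq_zeroSection_of_forall_notMem_basicOpen e g ((f.fiberι y).base ξ) (by
      intro i hmem
      have hcoord : g.appTop.hom (AffineSpace.coord Y i) = b i.down := by
        simp only [g]
        erw [AffineSpace.homOfVector_appTop_coord]
      rw [hcoord] at hmem
      have h2 : ξ ∈ (f.fiberι y) ⁻¹ᵁ X.basicOpen (b i.down) := hmem
      rw [Scheme.preimage_basicOpen] at h2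
      have h3 : m ∈ hWtop.fromSpec ⁻¹ᵁ (f.fiber y).basicOpen ((f.fiberι y).appTop.hom (b i.down)) := by
        change hWtop.fromSpec.base m ∈ (f.fiber y).basicOpen ((f.fiberι y).appTop.hom (b i.down))
        rw [hmξ]; exact h2
      rw [hWtop.fromSpec_preimage_basicOpen] at h3
      exact h3 (hbm i.down))
    rw [h1, hgq]
    have h2 : f.base ((f.fiberι y).base ξ) = y := by
      have : (f.fiberι y).base ξ ∈ Set.range (f.fiberι y).base := ⟨ξ, rfl⟩
      rw [Scheme.Hom.range_fiberι] at this
      exact this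
    rw [h2]

end Groth.Agent.H17.QS
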