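import Groth.Agent.H17.QS.PtChart
import Groth.Agent.H49.QFChart

/-!
# Pointed locally quasi-finite chart to affine space
-/

set_option autoImplicit false
set_option linter.style.haveILetI false
open CategoryTheory CategoryTheory.Limits AlgebraicGeometry TopologicalSpace Topology

universe u
namespace Groth.Agent.H17.QS

open Groth.Agent.H17.Chev Groth.Agent.H17 Groth.Agent.H49.QFChart

variable {X Y : Scheme.{u}}

set_option backward.isDefEq.respectTransparency.types false in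
/-- **Pointed locally quasi-finite chart**: for a point `x` closed in its fibre with
`dim_x X_{f x} = d`, there is a locally quasi-finite chart `U ⟶ 𝔸^d_V` sending `x` into the zero
section. -/
theorem exists_lqf_chart_pointed (f : X ⟶ Y) [LocallyOfFiniteType f] (x : X) (d : ℕ)
    (hd : FlatMor.fibreDimAt f x = d)
    (hcl : ∀ x' : X, f.base x' = f.base x → x ⤳ x' → x' = x)
    (V : Y.Opens) (hV : IsAffineOpen V) (hxV : f x ∈ V) :
    ∃ (U : X.Opens) (hUV : U ≤ f ⁻¹ᵁ V) (hxU : x ∈ U), IsAffineOpen U ∧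
      ∃ π : (U : Scheme.{u}) ⟶ 𝔸(ULift.{u} (Fin d); (V : Scheme.{u})),
        π ≫ (𝔸(ULift.{u} (Fin d); (V : Scheme.{u})) ↘ (V : Scheme.{u})) = f.resLE V U hUV ∧
          LocallyQuasiFinite π ∧ LocallyOfFiniteType π ∧
          π.base ⟨x, hxU⟩ = (zeroSection (V : Scheme.{u}) d).base ⟨f.base x, hxV⟩ := by
  obtain ⟨U₀, hU₀V, hxU₀, hU₀, hdim⟩ := exists_affineOpen_dim_fiber_le f x hd.le V hxV
  set f' := f.resLE V U₀ hU₀V with hf'
  haveI hAU : IsAffine U₀ := hU₀
  haveI hAV : IsAffine V := hV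
  set x₀ : U₀ := ⟨x, hxU₀⟩ with hx₀
  have hfd : FlatMor.fibreDimAt f' x₀ = d := by rw [hf', fibreDimAt_resLE]; exact hd
  have he : topologicalKrullDim ↥(f'.fiber (f'.base x₀)) = d :=
    le_antisymm hdim (hfd ▸ fibreDimAt_le_dim_fiber f' x₀)
  have hcomm : ∀ z : U₀, f.base z.1 = (f'.base z).1 := by
    intro z
    have := congrArg (fun m => m.base z) (Scheme.Hom.resLE_comp_ι f hU₀V)
    exact this.symm
  -- the point is closed in the fibre
  have hξ : IsClosed ({f'.asFiber x₀} : Set ↥(f'.fiber (f'.base x₀))) := by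
    rw [← closure_eq_iff_isClosed]
    apply subset_antisymm _ subset_closure
    intro ξ' hξ'
    have h1 : f'.asFiber x₀ ⤳ ξ' := specializes_iff_mem_closure.mpr hξ'
    have h2 := h1.map (f'.fiberι (f'.base x₀)).continuous
    rw [f'.fiberι_asFiber] at h2
    have h3 : x ⤳ ((f'.fiberι (f'.base x₀)).base ξ').1 := h2.map U₀.ι.continuous
    have h4 : f'.base ((f'.fiberι (f'.base x₀)).base ξ') = f'.base x₀ := by
      have : (f'.fiberι (f'.base x₀)).base ξ' ∈ Set.range (f'.fiberι (f'.base x₀)).base := ⟨ξ', rfl⟩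
      rw [Scheme.Hom.range_fiberι] at this
      exact this
    have h5 : ((f'.fiberι (f'.base x₀)).base ξ').1 = x := by
      apply hcl _ _ h3
      rw [hcomm, h4, ← hcomm]
    have h6 : (f'.fiberι (f'.base x₀)).base ξ' = x₀ := Subtype.ext h5
    have h7 : ξ' = f'.asFiber x₀ := by
      apply (f'.fiberι (f'.base x₀)).isEmbedding.injective
      rw [h6, f'.fiberι_asFiber]
    exact h7
  obtain ⟨g, hg, hfin, hpt⟩ :=
    exists_hom_affineSpace_finite_fibre_pointed f' (f'.base x₀) d he (f'.asFiber x₀) hξ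
  rw [f'.fiberι_asFiber] at hpt
  obtain ⟨-, U₁, hU₁, hqf⟩ := surjective_and_quasiFinite_of_finite_fibre f' (f'.base x₀) d he g hg hfin
  have hgft : LocallyOfFiniteType g := by
    have : LocallyOfFiniteType (g ≫ (𝔸(ULift.{u} (Fin d); (V : Scheme.{u})) ↘ (V : Scheme.{u}))) := by
      rw [hg]; infer_instance
    exact locallyOfFiniteType_of_comp g (𝔸(ULift.{u} (Fin d); (V : Scheme.{u})) ↘ (V : Scheme.{u}))
  -- `U₁` lies in the quasi-finite locus of `g`
  have hU₁le : U₁ ≤ g.quasiFiniteLocus := by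
    have h1 : (U₁.ι ≫ g).quasiFiniteLocus = ⊤ := (Scheme.Hom.quasiFiniteLocus_eq_top_iff _).mpr hqf
    rw [Scheme.Hom.quasiFiniteLocus_comp] at h1
    intro z hz
    have : (⟨z, hz⟩ : U₁) ∈ U₁.ι ⁻¹ᵁ g.quasiFiniteLocus := by rw [h1]; trivial
    exact this
  have hx₀U₁ : x₀ ∈ U₁ := hU₁ rfl
  -- an affine open of `X` inside the image of the quasi-finite locus
  have hopen : IsOpen ((U₀.ι ''ᵁ g.quasiFiniteLocus : X.Opens) : Set X) := (U₀.ι ''ᵁ _).2
  have hxm : x ∈ ((U₀.ι ''ᵁ g.quasiFiniteLocus : X.Opens) : Set X) :=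
    ⟨x₀, hU₁le hx₀U₁, rfl⟩
  obtain ⟨_, ⟨U, hU, rfl⟩, hxU, hUsub⟩ := X.isBasis_affineOpens.exists_subset_of_mem_open hxm hopen
  have hUU₀ : U ≤ U₀ := by
    intro z hz
    obtain ⟨w, -, rfl⟩ := hUsub hz
    exact w.2
  have hUV : U ≤ f ⁻¹ᵁ V := hUU₀.trans hU₀V
  refine ⟨U, hUV, hxU, hU, X.homOfLE hUU₀ ≫ g, ?_, ?_, ?_, ?_⟩
  · rw [Category.assoc, hg, hf']
    rw [← cancel_mono V.ι]
    simp only [Category.assoc, Scheme.Hom.resLE_comp_ι, Scheme.homOfLE_ι_assoc]
  · rw [← Scheme.Hom.quasiFiniteLocus_eq_top_iff, Scheme.Hom.quasiFiniteLocus_comp, eq_top_iff]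
    intro z _
    obtain ⟨w, hw, hwz⟩ := hUsub z.2
    have : (X.homOfLE hUU₀) z = w := by
      apply U₀.ι.isOpenEmbedding.injective
      rw [← Scheme.Hom.comp_apply, Scheme.homOfLE_ι]
      exact hwz.symm
    change (X.homOfLE hUU₀) z ∈ g.quasiFiniteLocus
    rw [this]
    exact hw
  · infer_instance
  · have h1 : (X.homOfLE hUU₀).base ⟨x, hxU⟩ = x₀ := by
      apply U₀.ι.isOpenEmbedding.injective
      rw [← Scheme.Hom.comp_apply, Scheme.homOfLE_ι]
      rfl
    rw [Scheme.Hom.comp_apply, h1, hpt]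
    congr 1
    apply Subtype.ext
    exact (hcomm x₀).symm

end Groth.Agent.H17.QS
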